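import Groth.Agent.KRRRegLib.Koszul
import Groth.Agent.KRRRegLib.Chase
import Groth.Agent.MultSecLib.Basic
import Groth.Agent.GorBlowLib.Sec
import Groth.Agent.CurveBddLib.Main
import Groth.Agent.FComplLib.Modules
import Groth.Agent.AVIndexLib.Index
import Groth.Agent.IntMultLib.Asymp

/-!
# Multiplication by the sections of a globally generated invertible module (Castelnuovo–Mumford)
-/

set_option autoImplicit false
set_option linter.style.haveILetI false
set_option linter.unusedSectionVars false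
set_option backward.isDefEq.respectTransparency false
set_option backward.isDefEq.respectTransparency.types false
set_option maxHeartbeats 1000000
set_option synthInstance.maxHeartbeats 400000

universe u

open CategoryTheory CategoryTheory.Limits AlgebraicGeometry TopologicalSpace Opposite MonoidalCategory
open AmpleLib (shT GenOn GenAt res)
open KFlatLib (pb pf puSec shApp tm PM pT tens)
open HilbPolyLib (assocIso congrLeft congrRight swapIso unitLeft)

noncomputable section

namespace CastMumLib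

variable {X : Scheme.{u}} {L : X.Modules}

open Groth.Agent.KoszOrthLib (secNat)

/-- `- ⊗ L` commutes with multiplication by sections. -/
theorem secNat_comm (hL : PicF.IsInvertible L)
    (hgen : ∀ x : X, ∃ τ : Γ(L, ⊤), GenAt L τ (show x ∈ (⊤ : X.Opens) from trivial))
    (σ : Γ(L, ⊤)) (B : X.Modules) :
    (DCoh.tensorRightMod L).map ((secNat L σ).app B) =
      (secNat L σ).app ((DCoh.tensorRightMod L).obj B) := by
  let T := DCoh.tensorRightMod L
  have nat : ∀ a c : Γ(L, ⊤), (secNat L a).app B ≫ (secNat L c).app (T.obj B) =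
      (secNat L c).app B ≫ T.map ((secNat L a).app B) := fun a c => (secNat L c).naturality ((secNat L a).app B)
  refine sub_eq_zero.1 (FComplLib.eq_zero_of_stalks _ fun x => ?_)
  obtain ⟨τ, hτ⟩ := hgen x
  let S := DerSch.stalkFunctor X x
  haveI : IsIso (S.map ((secNat L τ).app B)) := KRRRegLib.isIso_stalk_secNat hL hτ B
  have h0 : S.map (T.map ((secNat L τ).app B)) = S.map ((secNat L τ).app (T.obj B)) := by
    rw [← cancel_epi (S.map ((secNat L τ).app B)), ← Functor.map_comp, ← Functor.map_comp, nat τ τ]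
  rw [Functor.map_sub, sub_eq_zero, ← cancel_epi (S.map ((secNat L τ).app B)), ← Functor.map_comp,
    ← nat σ τ, Functor.map_comp, ← h0, ← Functor.map_comp, ← nat τ σ, Functor.map_comp]

variable (L) in
/-- Morphisms built from multiplications by sections. -/
def Fac (A C : X.Modules) : AddSubgroup (A ⟶ (DCoh.tensorRightMod L).obj C) :=
  AddSubgroup.closure {f | ∃ (g : A ⟶ C) (τ : Γ(L, ⊤)), f = g ≫ (secNat L τ).app C}

theorem fac_base {A C : X.Modules} (g : A ⟶ C) (τ : Γ(L, ⊤)) :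
    g ≫ (secNat L τ).app C ∈ Fac L A C :=
  AddSubgroup.subset_closure ⟨g, τ, rfl⟩

theorem fac_post {A C C' : X.Modules} {f : A ⟶ (DCoh.tensorRightMod L).obj C} (hf : f ∈ Fac L A C)
    (h : C ⟶ C') : f ≫ (DCoh.tensorRightMod L).map h ∈ Fac L A C' := by
  induction hf using AddSubgroup.closure_induction with
  | mem f hf =>
    obtain ⟨g, τ, rfl⟩ := hf
    rw [Category.assoc, ← (secNat L τ).naturality h, ← Category.assoc]
    exact fac_base (g ≫ h) τ
  | zero => rw [zero_comp]; exact zero_mem _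
  | add f g _ _ ihf ihg => rw [Preadditive.add_comp]; exact add_mem ihf ihg
  | neg f _ ih => rw [Preadditive.neg_comp]; exact neg_mem ih

theorem fac_pre {A' A C : X.Modules} (h : A' ⟶ A) {f : A ⟶ (DCoh.tensorRightMod L).obj C}
    (hf : f ∈ Fac L A C) : h ≫ f ∈ Fac L A' C := by
  induction hf using AddSubgroup.closure_induction with
  | mem f hf =>
    obtain ⟨g, τ, rfl⟩ := hf
    rw [← Category.assoc]
    exact fac_base (h ≫ g) τ
  | zero => rw [comp_zero]; exact zero_mem _
  | add f g _ _ ihf ihg => rw [Preadditive.comp_add]; exact add_mem ihf ihg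
  | neg f _ ih => rw [Preadditive.comp_neg]; exact neg_mem ih

theorem fac_map (hL : PicF.IsInvertible L)
    (hgen : ∀ x : X, ∃ τ : Γ(L, ⊤), GenAt L τ (show x ∈ (⊤ : X.Opens) from trivial))
    {A C : X.Modules} {f : A ⟶ (DCoh.tensorRightMod L).obj C} (hf : f ∈ Fac L A C) :
    (DCoh.tensorRightMod L).map f ∈
      Fac L ((DCoh.tensorRightMod L).obj A) ((DCoh.tensorRightMod L).obj C) := by
  induction hf using AddSubgroup.closure_induction with
  | mem f hf =>
    obtain ⟨g, τ, rfl⟩ := hf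
    rw [Functor.map_comp, secNat_comm hL hgen]
    exact fac_base _ τ
  | zero => rw [Functor.map_zero]; exact zero_mem _
  | add f g _ _ ihf ihg => rw [Functor.map_add]; exact add_mem ihf ihg
  | neg f _ ih => rw [Functor.map_neg]; exact neg_mem ih

/-- Images of such morphisms are sums of products. -/
theorem exists_shApp_of_fac {A C : X.Modules} {f : A ⟶ (DCoh.tensorRightMod L).obj C}
    (hf : f ∈ Fac L A C) (y : Γ(A, ⊤)) :
    ∃ s, shApp C L ⊤ s = (show Γ(tens C L, ⊤) from f.app ⊤ y) := by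
  let Φ : _ →+ Γ(tens C L, ⊤) := AddMonoidHom.mk' (shApp C L ⊤) (KFlatLib.shApp_add C L ⊤)
  suffices h : (show Γ(tens C L, ⊤) from f.app ⊤ y) ∈ Φ.range by
    obtain ⟨s, hs⟩ := h
    exact ⟨s, hs⟩
  induction hf using AddSubgroup.closure_induction with
  | mem f hf =>
    obtain ⟨g, τ, rfl⟩ := hf
    let O := Coh.structureModule X
    let c : Γ(C, ⊤) := g.app ⊤ y
    let t : Γ(tens C O, ⊤) := (Groth.Agent.KoszOrthLib.tRUnit.inv.app C).app ⊤ c
    obtain ⟨a, ha⟩ := (ExtTwistLib.shT_right_bijective (M := C) (AmpleLib.one_genOn (X := X) ⊤)).2 t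
    refine ⟨((DCoh.toP.obj C) ◁ DCoh.toP.map (QCohLib.unitHom L τ)).app (op ⊤)
      (KFlatLib.tm (DCoh.toP.obj C : KFlatLib.PM X.presheaf) (DCoh.toP.obj O : KFlatLib.PM X.presheaf) a (1 : Γ(X, ⊤))), ?_⟩
    refine (KFlatLib.shApp_map (M := C) (N := O) (M' := C) (N' := L)
      ((DCoh.toP.obj C) ◁ DCoh.toP.map (QCohLib.unitHom L τ)) ⊤ _).symm.trans ?_
    exact congrArg (((DCoh.tensorBi (X := X)).obj C).map (QCohLib.unitHom L τ) |>.app ⊤) ha
  | zero => exact zero_mem _
  | add f g _ _ ihf ihg => exact add_mem ihf ihg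
  | neg f _ ih => exact neg_mem ih

open KRRRegLib (Kz secC)

variable (F : X.Modules)

/-- The top term. -/
def topIso (σ : Γ(L, ⊤)) (l : List Γ(L, ⊤)) :
    (Kz F (σ :: l)).X 0 ≅ (DCoh.tensorRightMod L).obj ((Kz F l).X 0) where
  hom := (CochainComplex.mappingCone.snd ((secC σ).app (Kz F l))).v 0 0 (add_zero 0)
  inv := (CochainComplex.mappingCone.inr ((secC σ).app (Kz F l))).f 0
  hom_inv_id := by
    have h := CochainComplex.mappingCone.id_X ((secC σ).app (Kz F l)) 0 1 (zero_add 1)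
    rw [(show (CochainComplex.mappingCone.fst ((secC σ).app (Kz F l))).1.v 0 1 (zero_add 1) = 0 from
      (KRRRegLib.isZero_X F l 1 (Or.inl one_pos)).eq_of_tgt _ _), zero_comp, zero_add] at h
    exact h
  inv_hom_id := CochainComplex.mappingCone.inr_f_snd_v _ 0

/-- The last differential is built from multiplications by the sections. -/
theorem d_fac (hL : PicF.IsInvertible L)
    (hgen : ∀ x : X, ∃ τ : Γ(L, ⊤), GenAt L τ (show x ∈ (⊤ : X.Opens) from trivial)) :
    ∀ (σ : Γ(L, ⊤)) (l : List Γ(L, ⊤)),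
      (Kz F (σ :: l)).d (-1) 0 ≫ (topIso F σ l).hom ∈ Fac L ((Kz F (σ :: l)).X (-1)) ((Kz F l).X 0) := by
  intro σ l
  induction l generalizing σ with
  | nil =>
    change (CochainComplex.mappingCone ((secC σ).app (Kz F []))).d (-1) 0 ≫
      (CochainComplex.mappingCone.snd ((secC σ).app (Kz F []))).v 0 0 (add_zero 0) ∈ _
    rw [CochainComplex.mappingCone.d_snd_v _ (-1) 0 (by ring)]
    refine add_mem (fac_base _ σ) ?_
    rw [(show ((((DCoh.tensorRightMod L).mapHomologicalComplex _).obj (Kz F []))).d (-1) 0 = 0 from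
      ((DCoh.tensorRightMod L).map_isZero (KRRRegLib.isZero_X F [] (-1) (Or.inr (by simp)))).eq_of_src _ _),
      comp_zero]
    exact zero_mem _
  | cons τ l ih =>
    change (CochainComplex.mappingCone ((secC σ).app (Kz F (τ :: l)))).d (-1) 0 ≫
      (CochainComplex.mappingCone.snd ((secC σ).app (Kz F (τ :: l)))).v 0 0 (add_zero 0) ∈ _
    rw [CochainComplex.mappingCone.d_snd_v _ (-1) 0 (by ring)]
    refine add_mem (fac_base _ σ) (fac_pre _ ?_)
    have h := fac_post (fac_map hL hgen (ih τ)) (topIso F τ l).inv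
    rw [← Functor.map_comp, Category.assoc, Iso.hom_inv_id, Category.comp_id] at h
    exact h

theorem term_top : ∀ l : List Γ(L, ⊤),
    Nonempty ((Kz F l).X 0 ≅ CohB1.tensorMod F (CohB1.tensorPow L l.length))
  | [] => ⟨HomologicalComplex.singleObjXSelf (ComplexShape.up ℤ) 0 F ≪≫ (unitLeft F).symm ≪≫ swapIso _ _⟩
  | σ :: l => by
    obtain ⟨e⟩ := term_top l
    exact ⟨topIso F σ l ≪≫ (DCoh.tensorRightMod L).mapIso e ≪≫ assocIso F (CohB1.tensorPow L l.length) L⟩

/-- Vanishing of the cohomology of the terms. -/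
theorem term_van (q : ℕ) : ∀ (l : List Γ(L, ⊤)) (j i : ℕ),
    (j ≤ l.length → Subsingleton (Coh.HH X (CohB1.tensorMod F (CohB1.tensorPow L (l.length - j + i))) q)) →
    Subsingleton (Coh.HH X (CohB1.tensorMod ((Kz F l).X (-(j : ℤ))) (CohB1.tensorPow L i)) q)
  | [], 0, i, h =>
    SerreVanLib.subsingleton_HH_of_iso
      ((DCoh.tensorRightMod (CohB1.tensorPow L i)).mapIso
        (HomologicalComplex.singleObjXIsoOfEq (ComplexShape.up ℤ) 0 F (-((0 : ℕ) : ℤ)) (by simp))) q
      (by have := h le_rfl; simp only [List.length_nil, Nat.sub_zero, Nat.zero_add] at this; exact this)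
  | [], j + 1, i, _ =>
    PnCohLib.subsingleton_HH_of_zero
      ((DCoh.tensorRightMod (CohB1.tensorPow L i)).map_isZero (KRRRegLib.isZero_X F [] _ (Or.inr (by simp <;> omega)))) q
  | σ :: l, j, i, h => by
    let K := Kz F l
    let T := DCoh.tensorRightMod L
    let U := DCoh.tensorRightMod (CohB1.tensorPow L i)
    haveI : PreservesBinaryBiproducts U := preservesBinaryBiproducts_of_preservesBiproducts U
    let e0 := HomologicalComplex.homotopyCofiber.XIsoBiprod ((KRRRegLib.secC σ).app K) (-(j : ℤ)) (-(j : ℤ) + 1) rfl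
    refine SerreVanLib.subsingleton_HH_of_iso (U.mapIso e0 ≪≫ U.mapBiprod _ _) q
      (AVIndexLib.subsingleton_HH_biprod q ?_ ?_)
    · rcases j with - | j
      · exact PnCohLib.subsingleton_HH_of_zero
          (U.map_isZero (KRRRegLib.isZero_X F l _ (Or.inl (by simp)))) q
      · refine SerreVanLib.subsingleton_HH_of_iso (U.mapIso (K.XIsoOfEq (by push_cast; ring))) q
          (term_van q l j i fun hj => ?_)
        have := h (by simpa using hj)
        simpa using this
    · refine SerreVanLib.subsingleton_HH_of_iso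
        (show CohB1.tensorMod (CohB1.tensorMod (K.X (-(j : ℤ))) L) (CohB1.tensorPow L i) ≅
            CohB1.tensorMod (K.X (-(j : ℤ))) (CohB1.tensorPow L (i + 1)) from
          assocIso _ _ _ ≪≫ congrRight _ (swapIso L (CohB1.tensorPow L i))) q
        (term_van q l j (i + 1) fun hj => ?_)
      have := h (by simp; omega)
      rwa [show (σ :: l).length - j + i = l.length - j + (i + 1) by simp; omega] at this

variable (k : Type u) [Field k] [X.Over (Spec (CommRingCat.of k))] [IsProper (X ↘ Spec (CommRingCat.of k))]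

include k in
theorem mult_top (hL : PicF.IsInvertible L) (σ : Γ(L, ⊤)) (l : List Γ(L, ⊤))
    (hgen : ∀ x : X, ∃ τ ∈ σ :: l, GenAt L τ (show x ∈ (⊤ : X.Opens) from trivial))
    (hvan : ∀ q : ℕ, 1 ≤ q → q ≤ l.length →
      Subsingleton (Coh.HH X (CohB1.tensorMod F (CohB1.tensorPow L (l.length - q))) q)) :
    MultSecLib.Mult (CohB1.tensorMod F (CohB1.tensorPow L l.length)) L := by
  let K := Kz F (σ :: l)
  have hK : K.Acyclic := KRRRegLib.acyclic hL F _ hgen
  have hX : ∀ q : ℕ, 1 ≤ q → Subsingleton (Coh.HH X (K.X (-((q + 1 : ℕ) : ℤ))) q) := fun q hq => by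
    refine SerreVanLib.subsingleton_HH_of_iso
      ((unitLeft (K.X (-((q + 1 : ℕ) : ℤ)))).symm ≪≫ swapIso _ _ :
        K.X (-((q + 1 : ℕ) : ℤ)) ≅ CohB1.tensorMod (K.X (-((q + 1 : ℕ) : ℤ))) (CohB1.tensorPow L 0)) q
      (term_van F q (σ :: l) (q + 1) 0 fun hj => ?_)
    have := hvan q hq (by simpa using hj)
    simpa using this
  have hZ : ∀ t q : ℕ, 1 ≤ q → l.length + 1 ≤ q + t → Subsingleton (Coh.HH X (K.cycles (-(q : ℤ))) q) := by
    intro t
    induction t with
    | zero =>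
      intro q _ hq
      have hse := KRRRegLib.cycles_shortExact K hK (-(q : ℤ) - 1) (-(q : ℤ)) (by ring)
      haveI : Epi (K.toCycles (-(q : ℤ) - 1) (-(q : ℤ))) := hse.epi_g
      exact PnCohLib.subsingleton_HH_of_zero (IsZero.of_epi (K.toCycles (-(q : ℤ) - 1) (-(q : ℤ)))
        (KRRRegLib.isZero_X F _ _ (Or.inr (by simp; omega)))) q
    | succ t ih =>
      intro q hq hqt
      have hse := KRRRegLib.cycles_shortExact K hK (-((q + 1 : ℕ) : ℤ)) (-(q : ℤ)) (by push_cast; ring)
      exact CurveBddLib.subsingleton_X₃ (k := k) hse (hX q hq) (ih (q + 1) (by omega) (by omega))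
  have hse := KRRRegLib.cycles_shortExact K hK (-1) 0 (by ring)
  have hsurj := GorBlowLib.surjective_top hse
    (by simpa using hZ (l.length + 1) 1 le_rfl (by omega))
  obtain ⟨e⟩ := term_top F l
  refine MultSecLib.mult_iso e (Iso.refl L) fun w => ?_
  let θ := topIso F σ l
  let y : Γ(K.X 0, ⊤) := θ.inv.app ⊤ w
  have hd : K.d 0 1 = 0 := (KRRRegLib.isZero_X F _ 1 (Or.inl one_pos)).eq_of_tgt _ _
  let z : K.X 0 ⟶ K.cycles 0 := K.liftCycles (𝟙 _) 1 (by simp) (by rw [hd, comp_zero])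
  obtain ⟨v, hv⟩ := hsurj (z.app ⊤ y)
  have hy : (K.d (-1) 0).app ⊤ v = y := by
    rw [← HomologicalComplex.toCycles_i K (-1) 0, Scheme.Modules.Hom.comp_app]
    refine (congrArg ((K.iCycles 0).app ⊤) hv).trans ?_
    exact congrArg (fun g : K.X 0 ⟶ K.X 0 => g.app ⊤ y) (K.liftCycles_i (𝟙 _) 1 (by simp) (by rw [hd, comp_zero]))
  obtain ⟨s, hs⟩ := exists_shApp_of_fac (d_fac F hL (fun x => let ⟨τ, _, hτ⟩ := hgen x; ⟨τ, hτ⟩) σ l) v
  refine ⟨s, hs.trans ?_⟩
  refine (congrArg (θ.hom.app ⊤) hy).trans ?_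
  exact congrArg (fun g : (DCoh.tensorRightMod L).obj ((Kz F l).X 0) ⟶ (DCoh.tensorRightMod L).obj ((Kz F l).X 0) => g.app ⊤ w) θ.inv_hom_id

variable {M : X.Modules}

/-- Powers of an inverse are inverses. -/
theorem pow_inv (hM : ClSub.IsInverseOf M L) : ∀ a : ℕ,
    Nonempty (CohB1.tensorMod (CohB1.tensorPow M a) (CohB1.tensorPow L a) ≅ Coh.structureModule X)
  | 0 => ⟨unitLeft _⟩
  | a + 1 => by
    obtain ⟨e⟩ := pow_inv hM a
    obtain ⟨φ⟩ := hM
    exact ⟨assocIso (CohB1.tensorPow M a) M (CohB1.tensorPow L (a + 1)) ≪≫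
      congrRight _ (congrRight _ (swapIso (CohB1.tensorPow L a) L) ≪≫ (assocIso M L _).symm ≪≫
        congrLeft φ _ ≪≫ unitLeft _) ≪≫ e⟩

theorem mult_pow (hL : PicF.IsInvertible L) (hM : ClSub.IsInverseOf M L) (b : ℕ) (σ : Γ(L, ⊤))
    (l : List Γ(L, ⊤))
    (hgen : ∀ x : X, ∃ τ ∈ σ :: l, GenAt L τ (show x ∈ (⊤ : X.Opens) from trivial))
    (hvan₁ : ∀ q : ℕ, 1 ≤ q → q ≤ b → q ≤ l.length →
      Subsingleton (Coh.HH X (CohB1.tensorPow L (b - q)) q))
    (hvan₂ : ∀ q : ℕ, b < q → q ≤ l.length → Subsingleton (Coh.HH X (CohB1.tensorPow M (q - b)) q))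
    (hk : IsProper (X ↘ Spec (CommRingCat.of k))) :
    MultSecLib.Mult (CohB1.tensorPow L b) L := by
  let n := l.length
  let P : ℕ → X.Modules := fun a => CohB1.tensorPow L a
  let N : ℕ → X.Modules := fun a => CohB1.tensorPow M a
  let F := CohB1.tensorMod (P b) (N n)
  obtain ⟨en⟩ := pow_inv hM n
  refine MultSecLib.mult_iso (A := CohB1.tensorMod F (P n))
    (assocIso _ _ _ ≪≫ congrRight _ en ≪≫ swapIso _ _ ≪≫ unitLeft _) (Iso.refl L)
    (mult_top F k hL σ l hgen fun q hq hqn => ?_)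
  -- `F ⊗ L^(n-q) ≅ L^b ⊗ M^q`
  obtain ⟨eM⟩ := IntMultLib.nonempty_tensorPow_add M q (n - q)
  obtain ⟨ec⟩ := pow_inv hM (n - q)
  have e1 : CohB1.tensorMod F (P (n - q)) ≅ CohB1.tensorMod (P b) (N q) :=
    assocIso _ _ _ ≪≫ congrRight _ (congrLeft (eqToIso (congrArg N (show n = q + (n - q) by omega)) ≪≫ eM) _ ≪≫
      assocIso _ _ _ ≪≫ congrRight _ ec ≪≫ swapIso _ _ ≪≫ unitLeft _)
  refine SerreVanLib.subsingleton_HH_of_iso e1 q ?_
  by_cases h : q ≤ b
  · obtain ⟨eL⟩ := IntMultLib.nonempty_tensorPow_add L (b - q) q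
    obtain ⟨eq⟩ := pow_inv hM q
    refine SerreVanLib.subsingleton_HH_of_iso
      (congrLeft (eqToIso (congrArg P (show b = b - q + q by omega)) ≪≫ eL) _ ≪≫ assocIso _ _ _ ≪≫
        congrRight _ (swapIso _ _ ≪≫ eq) ≪≫ swapIso _ _ ≪≫ unitLeft _) q (hvan₁ q hq h hqn)
  · obtain ⟨eM'⟩ := IntMultLib.nonempty_tensorPow_add M b (q - b)
    obtain ⟨eb⟩ := pow_inv hM b
    refine SerreVanLib.subsingleton_HH_of_iso
      (congrRight _ (eqToIso (congrArg N (show q = b + (q - b) by omega)) ≪≫ eM') ≪≫ (assocIso _ _ _).symm ≪≫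
        congrLeft (swapIso _ _ ≪≫ eb) _ ≪≫ unitLeft _) q (hvan₂ q (by omega) hqn)

end CastMumLib

end
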